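import Cfsg.Agent.H901.CA.Uni

/-!
# Unipotent elements of order `p` in the full unitary group (helper901, for S3852)
-/

set_option autoImplicit false
set_option linter.unusedSectionVars false

namespace Cfsg.Agent.H901.CA

open Finset Matrix Cfsg.Agent.H308.CA Module

variable {ι : Type} [Fintype ι] [DecidableEq ι] {E : Type} [CommRing E] [StarRing E]

/-- **the conjugating element** in the full unitary group -/
theorem Fam.exists_conjU {n : Matrix ι ι E} {κ : Type} (D : Fam n κ) [Fintype κ] (hn : star n = -n)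
    (hD : ∀ x ∈ D.perp, x = 0) {a : ℕ} {μ : κ → E} (h1 : ∀ i, star (μ i) * μ i * (a : E) ^ (D.s i) = 1) :
    ∃ g : Matrix ι ι E, star g * g = 1 ∧ g * n = (a : Matrix ι ι E) * n * g := by
  obtain ⟨g, hg, -⟩ := D.exists_diag hn hD fun t => μ t.1 * (a : E) ^ (t.2 : ℕ)
  have hu : star g * g = 1 := by
    refine D.ext_b hn hD fun t => ?_
    rw [← mulVec_mulVec, one_mulVec, hg, mulVec_smul]
    rw [← sub_eq_zero]
    refine hD _ (D.mem_perp_of hn fun t' => ?_)
    rw [hf_sub_right, hf_smul_right]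
    have h3 : hf (D.b t') (star g *ᵥ D.b t) = star (μ t'.1 * (a : E) ^ (t'.2 : ℕ)) * hf (D.b t') (D.b t) := by
      rw [← hf_mulVec_left, hg, hf_smul_left]
    rw [h3]
    obtain ⟨t'', rfl⟩ : ∃ t'', t' = D.σ t'' := ⟨D.σ t', (D.σ_σ t').symm⟩
    by_cases h4 : t = t''
    · subst h4
      have h5 : (t.2 : ℕ) < D.s t.1 + 1 := t.2.2
      have h6 : (μ t.1 * (a : E) ^ (t.2 : ℕ)) * star (μ (D.σ t).1 * (a : E) ^ ((D.σ t).2 : ℕ)) = 1 := by
        rw [star_mul', star_pow, star_natCast, D.σ_val]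
        show (μ t.1 * (a : E) ^ (t.2 : ℕ)) * (star (μ t.1) * (a : E) ^ (D.s t.1 - t.2)) = 1
        rw [← h1 t.1]
        have h7 : (a : E) ^ (D.s t.1) = (a : E) ^ (t.2 : ℕ) * (a : E) ^ (D.s t.1 - t.2) := by
          rw [← pow_add]
          congr 1
          omega
        rw [h7]
        ring
      rw [← mul_assoc, h6, one_mul, sub_self]
    · rw [D.gram hn t'' t h4, mul_zero, mul_zero, sub_zero]
  refine ⟨g, hu, ?_⟩
  refine D.ext_b hn hD fun t => ?_
  have h3 : ((a : Matrix ι ι E)) * n = (a : E) • n := by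
    rw [← nsmul_eq_mul, ← Nat.cast_smul_eq_nsmul E]
  rw [h3, ← mulVec_mulVec, ← mulVec_mulVec, hg, mulVec_smul]
  rcases t with ⟨i, j⟩
  have h4 : n *ᵥ D.b ⟨i, j⟩ = (n ^ ((j : ℕ) + 1)) *ᵥ D.v i := by
    rw [Fam.b, mulVec_mulVec, ← pow_succ']
  rw [smul_mulVec, h4]
  rcases Nat.lt_or_ge ((j : ℕ) + 1) (D.s i + 1) with h5 | h5
  · have h6 := hg ⟨i, ⟨(j : ℕ) + 1, h5⟩⟩
    have h7 : D.b ⟨i, ⟨(j : ℕ) + 1, h5⟩⟩ = (n ^ ((j : ℕ) + 1)) *ᵥ D.v i := rfl
    rw [h7] at h6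
    rw [h6, smul_smul]
    congr 1
    show μ i * (a : E) ^ ((j : ℕ) + 1) = μ i * (a : E) ^ (j : ℕ) * a
    ring
  · rw [pow_mulVec_zero h5 (D.kill i), mulVec_zero, smul_zero, smul_zero]

/-- **unipotent elements of order `p` are conjugate to their squares in the full unitary group** -/
theorem uni_two (h : Gd E) {p : ℕ} (hp : p.Prime) (hp2 : p ≠ 2) (hch : CharP E p) (y : Matrix ι ι E)
    (hy : star y * y = 1) (hyp : y ^ p = 1) : ∃ g : Matrix ι ι E, star g * g = 1 ∧ g * y * star g = y ^ 2 := by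
  have hfin := h.finite
  have hnt := h.nontrivial
  have hpE : (p : E) = 0 := CharP.cast_eq_zero E p
  have hp0 : (p : Matrix ι ι E) = 0 := by
    rw [← nsmul_one, ← Nat.cast_smul_eq_nsmul E, hpE, zero_smul]
  have h2 : IsUnit (2 : E) := by
    have h4 : IsUnit ((2 : ℕ) : E) := (CharP.isUnit_natCast_iff hp).2 (fun h5 => hp2 (by
      rw [← (Nat.prime_dvd_prime_iff_eq hp Nat.prime_two).1 h5]))
    simpa using h4
  obtain ⟨n, hn1, hn2, hn3⟩ := exists_skew hp hp0 hy (mul_eq_one_comm.1 hy) hyp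
  obtain ⟨κ, _, _, D, hD⟩ := Fam.exists_full h hn2 h2 hn3
  obtain ⟨t, ht⟩ := h2.exists_right_inv
  have hstt : star t = t := by
    have h3 : (2 : E) * star t = 1 := by
      have h4 := congrArg star ht
      rwa [star_mul', star_one, star_ofNat] at h4
    calc star t = (2 * t) * star t := by rw [ht, one_mul]
      _ = (2 * star t) * t := by ring
      _ = t := by rw [h3, one_mul]
  have htu : IsUnit t := IsUnit.of_mul_eq_one 2 (by rw [mul_comm, ht])
  choose μ hμ using fun i => h.norm (a := t ^ (D.s i)) (by rw [star_pow, hstt]) (htu.pow _).ne_zero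
  obtain ⟨g, hg1, hg2⟩ := D.exists_conjU hn2 hD (a := 2) (μ := μ) (by
    intro i
    rw [hμ, Nat.cast_ofNat, ← mul_pow, mul_comm t, ht, one_pow])
  refine ⟨g, hg1, ?_⟩
  have hg3 : g * star g = 1 := mul_eq_one_comm.1 hg1
  rw [← hn1, ex_conj hg2, ex_nat hp hp0 hn3, mul_assoc, hg3, mul_one]

/-- version for the full unitary group -/
theorem uni_full (h : Gd E) {p : ℕ} (hp : p.Prime) (hp2 : p ≠ 2) (hch : CharP E p) (y : Matrix ι ι E)
    (hy : star y * y = 1) (hyp : y ^ p = 1) (_ : y ≠ 1) :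
    ∃ (g : Matrix ι ι E) (a : ℕ), star g * g = 1 ∧ ¬ a ≡ 1 [MOD p] ∧ g * y * star g = y ^ a := by
  obtain ⟨g, hg1, hg2⟩ := uni_two h hp hp2 hch y hy hyp
  refine ⟨g, 2, hg1, fun h5 => ?_, hg2⟩
  have h6 := (Nat.modEq_iff_dvd' (by norm_num : 1 ≤ 2)).1 h5.symm
  exact hp.one_lt.ne' (Nat.dvd_one.1 h6)

end Cfsg.Agent.H901.CA
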